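import Groth.Agent.H26.DetExtend
import Groth.Agent.H26.DepthExtend
import Groth.Agent.H18.SerreCrit
import Groth.Agent.Lib.RefHull.PowColim
import Groth.Agent.Lib.RefHull.Reflexive
import Groth.Agent.Lib.Modules.ExtendFT
import Groth.Agent.Lib.Modules.StalkModule
import Groth.Agent.Lib.FittSheaf.Basic
import Groth.Agent.Lib.Modules.SupportOps
import Mathlib.RingTheory.Flat.TorsionFree

/-!
The bidual of a submodule of a flat module on a normal Noetherian scheme.
-/

universe u

open CategoryTheory AlgebraicGeometry TopologicalSpace IsLocalRing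

set_option autoImplicit false
set_option linter.style.haveILetI false

namespace Groth.Agent.Lib.RefHullN.Bidual

open Groth.Agent.Lib

variable {S : Scheme.{u}}

/-- A submodule of finite type of a quasi-coherent module is coherent. -/
theorem isCoh_of_mono [IsLocallyNoetherian S] {A F : S.Modules} (hA : Coh.IsQCoh A) (ι : F ⟶ A)
    [Mono ι] (hF : CohB1.IsFT F) : Coh.IsCoh F := by
  haveI : A.IsQuasicoherent := hA
  haveI : IsOpenImmersion (⊤ : S.Opens).ι := inferInstance
  haveI : Mono ((Scheme.Modules.restrictFunctor (⊤ : S.Opens).ι).map ι) := inferInstance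
  haveI : SheafOfModules.IsFiniteType (R := S.ringCatSheaf) F := hF
  haveI := Modules.SupportOps.isFT_pullback (⊤ : S.Opens).ι F
  have hG : CohB1.IsFT (F.restrict (⊤ : S.Opens).ι) :=
    Modules.SupportOps.isFT_of_iso ((Scheme.Modules.restrictFunctorIsoPullback _).app F).symm
  obtain ⟨G', i', e, -, hq, -, -⟩ := Modules.ExtendFT.exists_extension_of_noetherian (F := A)
    (fun x => by
      obtain ⟨U, hU, hx, -⟩ := exists_isAffineOpen_mem_and_subset (U := ⊤) (x := x) trivial
      haveI : IsNoetherianRing Γ(S, U) := IsLocallyNoetherian.component_noetherian ⟨U, hU⟩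
      exact ⟨U, hx, noetherianSpace_of_isAffineOpen U hU⟩)
    ⊤ _ ((Scheme.Modules.restrictFunctor (⊤ : S.Opens).ι).map ι) hG
  let R := Scheme.Modules.restrictFunctor (S.topIso.inv)
  have hι : S.topIso.inv ≫ (⊤ : S.Opens).ι = 𝟙 S := S.topIso.inv_hom_id
  let Φ : Scheme.Modules.restrictFunctor (⊤ : S.Opens).ι ⋙ R ≅ 𝟭 _ :=
    (Scheme.Modules.restrictFunctorComp _ _).symm ≪≫ Scheme.Modules.restrictFunctorCongr hι ≪≫
      Scheme.Modules.restrictFunctorId
  exact ⟨(SheafOfModules.isQuasicoherent (R := S.ringCatSheaf)).prop_of_iso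
    ((Φ.app G').symm ≪≫ R.mapIso e ≪≫ Φ.app F) hq, hF⟩

/-- Outside the flat locus a submodule of a flat module has local rings of dimension at least two. -/
theorem two_le_dim (hS : Pi1.IsNormalScheme S) [IsLocallyNoetherian S] {A F : S.Modules}
    (hAfl : FlatMod.IsFlat A) (ι : F ⟶ A) [Mono ι] (x : S) (hx : ¬ FlatMod.IsFlatAt F x) :
    (2 : WithBot ℕ∞) ≤ ringKrullDim (S.presheaf.stalk x) := by
  let R := S.presheaf.stalk x
  haveI := (hS x).1
  haveI := (hS x).2
  by_contra hd
  have hd1 : ringKrullDim R ≤ 1 := by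
    have h1 : ringKrullDim R < 2 := not_le.1 hd
    obtain ⟨n, hn⟩ : ∃ n : ℕ∞, ringKrullDim R = n := by
      cases h : ringKrullDim R with
      | bot => exact absurd h ringKrullDim_ne_bot
      | coe n => exact ⟨n, rfl⟩
    rw [hn] at h1 ⊢
    have h2 : n < 2 := WithBot.coe_lt_coe.1 h1
    exact WithBot.coe_le_coe.2 (ENat.lt_coe_add_one_iff.1 (by exact_mod_cast h2))
  haveI := Groth.Agent.H18.SerreCrit.isRegularLocalRing_of_normal hd1
  haveI : IsPrincipalIdealRing R := by
    have h4 : IsIntegrallyClosed R ∧ ∀ P : Ideal R, P ≠ ⊥ → P.IsPrime → P = maximalIdeal R := by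
      refine ⟨inferInstance, fun P hP _ => ?_⟩
      by_contra hne
      have hlt : P < maximalIdeal R := lt_of_le_of_ne (le_maximalIdeal Ideal.IsPrime.ne_top') hne
      have h1 := Ideal.height_add_one_le_of_lt_of_isPrime hlt
      have h2 : (⊥ : Ideal R).height + 1 ≤ P.height :=
        Ideal.height_add_one_le_of_lt_of_isPrime (bot_lt_iff_ne_bot.mpr hP)
      rw [← maximalIdeal_height_eq_ringKrullDim] at hd1
      have h3 : (maximalIdeal R).height ≤ 1 := by exact_mod_cast hd1
      have h5 : ((⊥ : Ideal R).height + 1) + 1 ≤ 1 :=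
        ((add_le_add h2 le_rfl).trans h1).trans h3
      have h6 : (1 : ℕ∞) + 1 ≤ 1 := (add_le_add le_add_self le_rfl).trans h5
      exact absurd h6 (by norm_num)
    exact ((tfae_of_isNoetherianRing_of_isLocalRing_of_isDomain R).out 3 0).mp h4
  apply hx
  haveI : Module.Flat R (A.presheaf.stalk x) := hAfl x
  show Module.Flat R (F.presheaf.stalk x)
  rw [Module.Flat.flat_iff_torsion_eq_bot_of_isBezout, eq_bot_iff]
  intro v hv
  obtain ⟨a, ha⟩ := (Submodule.mem_torsion_iff v).1 hv
  have hinj : Function.Injective (Modules.StalkModule.stalkMapₗ ι x) :=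
    (Modules.StalkModule.mono_iff_stalkMapₗ_injective ι).1 inferInstance x
  have h : (Modules.StalkModule.stalkMapₗ ι x) v ∈ Submodule.torsion R (A.presheaf.stalk x) := by
    refine (Submodule.mem_torsion_iff _).2 ⟨a, ?_⟩
    rw [Submonoid.smul_def, ← map_smul, ← Submonoid.smul_def, ha, map_zero]
  rw [Module.Flat.torsion_eq_bot, Submodule.mem_bot] at h
  exact (Submodule.mem_bot _).2 (hinj (h.trans (map_zero _).symm))

theorem main [IsNoetherian S] (hS : Pi1.IsNormalScheme S) (A F : S.Modules) (hA : Coh.IsQCoh A)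
    (hAfl : FlatMod.IsFlat A) (ι : F ⟶ A) [Mono ι] (hF : CohB1.IsFT F) (U : S.Opens)
    (hU : (U : Set S) = {s : S | FlatMod.IsFlatAt F s}) :
    ∃ e : RefHull.ddual F ≅ (Scheme.Modules.pushforward U.ι).obj (F.restrict U.ι),
      RefHull.bidualMap F ≫ e.hom = (Scheme.Modules.restrictAdjunction U.ι).unit.app F := by
  have hcoh := isCoh_of_mono hA ι hF
  haveI : F.IsQuasicoherent := hcoh.1
  have hdepth : ∀ x : S, x ∉ U → (2 : ℕ∞) ≤ LocCoh.depth (S.presheaf.stalk x) (S.presheaf.stalk x) := by
    intro x hx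
    haveI := (hS x).1
    haveI := (hS x).2
    exact Groth.Agent.H18.SerreCrit.two_le_depth_of_normal
      (two_le_dim hS hAfl ι x fun h => hx (hU.ge h))
  haveI : IsIso ((Scheme.Modules.restrictAdjunction U.ι).unit.app (RefHull.ddual F)) :=
    (ParaF.ResBij.resBij_iff_isIso_unit U.ι (Scheme.Opens.opensRange_ι _) _).mp
      (Groth.Agent.H26.DetExtend.resBij_dual
        (Groth.Agent.H26.DepthExtend.bijective_restrict U hdepth) _)
  haveI : IsIso ((Scheme.Modules.restrictFunctor U.ι).map (RefHull.bidualMap F)) :=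
    TensorMod.LocIso.isIso_restrict_of_isIso_app fun V hV =>
      (ConcreteCategory.isIso_iff_bijective _).mpr (RefHull.PowColim.bijective_app _ V fun y hy => by
        refine (RefHull.Reflexive.bijective_stalkMap_bidual_iff hcoh y).mpr ?_
        have hfl : FlatMod.IsFlatAt F y := hU.le (hV hy)
        haveI : Module.Flat (S.presheaf.stalk y) (F.presheaf.stalk y) := hfl
        obtain ⟨W, hW, hyW, -⟩ := exists_isAffineOpen_mem_and_subset (U := ⊤) (x := y) trivial
        haveI : Module.Finite Γ(S, W) Γ(F, W) := CohBasics.Closure.finite_sections hcoh hW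
        haveI := FittSheaf.finite_stalk F hW hyW
        haveI : Module.Free (S.presheaf.stalk y) (F.presheaf.stalk y) := Module.free_of_flat_of_isLocalRing
        show Module.IsReflexive (S.presheaf.stalk y) (F.presheaf.stalk y)
        infer_instance)
  refine ⟨asIso ((Scheme.Modules.restrictAdjunction U.ι).unit.app (RefHull.ddual F)) ≪≫
    ((Scheme.Modules.pushforward U.ι).mapIso
      (asIso ((Scheme.Modules.restrictFunctor U.ι).map (RefHull.bidualMap F)))).symm, ?_⟩
  simp only [Iso.trans_hom, asIso_hom, Iso.symm_hom, Functor.mapIso_inv, asIso_inv]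
  have hnat := (Scheme.Modules.restrictAdjunction U.ι).unit.naturality (RefHull.bidualMap F)
  simp only [Functor.id_map, Functor.comp_map] at hnat
  rw [← Category.assoc, hnat, Category.assoc, ← Functor.map_comp, IsIso.hom_inv_id, CategoryTheory.Functor.map_id]
  exact Category.comp_id _

end Groth.Agent.Lib.RefHullN.Bidual
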