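import Groth.Agent.Lib.RefHull.HomSh
import Groth.Agent.Lib.Modules.GenStalk
import Groth.Agent.Lib.Modules.AffineSections

/-!
`evalStalk` for sources of finite type or of finite presentation.
-/

universe u

noncomputable section

open CategoryTheory AlgebraicGeometry TopologicalSpace Opposite

namespace Groth.Agent.Lib.RefHullN.EvalStalk

open Groth.Agent.Lib Groth.Agent.Lib.TensorMod.Dual Groth.Agent.Lib.RefHull.SecHom
  Groth.Agent.Lib.RefHull.HomSh

variable {X : Scheme.{u}} {F G : X.Modules}

theorem evalStalk_injective (hF : CohB1.IsFT F) (x : X) :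
    Function.Injective (RefHull.evalStalk F G x) := by
  classical
  rw [injective_iff_map_eq_zero]
  intro v hv
  obtain ⟨U₀, hx₀, g, rfl⟩ := TopCat.Presheaf.exists_germ_eq (RefHull.homSh F G).presheaf v
  rw [RefHull.evalStalk_germ] at hv
  obtain ⟨W, hxW, k, s, hs⟩ := @Modules.GenStalk.exists_span_stalk_of_isFiniteType _ F hF x
  let U := W ⊓ U₀
  have hxU : x ∈ U := ⟨hxW, hx₀⟩
  let m : Fin k → Γ(F, U) := fun i => rs F inf_le_left (s i)
  have hex : ∀ i, ∃ V : X.Opens, x ∈ V ∧ ∃ j : V ≤ U, rs G j (app g inf_le_right (m i)) = 0 := fun i => by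
    obtain ⟨V, hxV, i₁, i₂, hV⟩ := TopCat.Presheaf.germ_eq G.presheaf x hxU hxU
      (app g inf_le_right (m i)) 0 (by
        rw [map_zero, germ_app]
        exact LinearMap.congr_fun hv _)
    exact ⟨V, hxV, i₁.le, hV.trans (map_zero _)⟩
  choose V hxV hV hV0 using hex
  have hopen : IsOpen ((U : Set X) ∩ ⋂ i, (V i : Set X)) :=
    U.2.inter (isOpen_iInter_of_finite fun i => (V i).2)
  let Z : X.Opens := ⟨_, hopen⟩
  have hxZ : x ∈ Z := ⟨hxU, Set.mem_iInter.2 hxV⟩
  have hZU : Z ≤ U₀ := fun y hy => hy.1.2
  have key : rs (RefHull.homSh F G) hZU g = 0 := by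
    refine Subtype.ext (funext fun y => ?_)
    refine LinearMap.ext fun t => ?_
    show g.1 ⟨y.1, hZU y.2⟩ t = 0
    have hW : y.1 ∈ W := y.2.1.1
    have ht : t ∈ Submodule.span (X.presheaf.stalk y.1)
        (Set.range fun i => F.presheaf.germ W y.1 hW (s i)) := by rw [hs y.1 hW]; trivial
    induction ht using Submodule.span_induction with
    | mem w hw =>
      obtain ⟨i, rfl⟩ := hw
      have hyU : y.1 ∈ U := y.2.1
      have h1 := congrArg (G.presheaf.germ (V i) y.1 (Set.mem_iInter.1 y.2.2 i)) (hV0 i)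
      rw [map_zero, germ_rs, germ_app] at h1
      simpa [m, germ_rs] using h1
    | zero => exact map_zero _
    | add a b _ _ ha hb => rw [map_add, ha, hb, add_zero]
    | smul a b _ hb => rw [map_smul, hb, smul_zero]
  exact (germ_rs (M := RefHull.homSh F G) hZU hxZ g).symm.trans (by rw [key, map_zero])

/-- Finitely many generators and generators of their relations for a finitely presented module. -/
theorem exists_gens_rels' (R : Type u) [CommRing R] (M : Type u) [AddCommGroup M] [Module R M]
    [Module.FinitePresentation R M] :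
    ∃ (k l : ℕ) (m : Fin k → M) (r : Fin l → Fin k → R),
      Submodule.span R (Set.range m) = ⊤ ∧ (∀ j, ∑ i, r j i • m i = 0) ∧
      ∀ (P : Type u) [AddCommGroup P] [Module R P] (n : Fin k → P),
        (∀ j, ∑ i, r j i • n i = 0) → ∃ φ : M →ₗ[R] P, ∀ i, φ (m i) = n i := by
  obtain ⟨k, m, hm⟩ := Module.Finite.exists_fin (R := R) (M := M)
  let π := Fintype.linearCombination R m
  have hπ : Function.Surjective π := by
    rw [← LinearMap.range_eq_top, Fintype.range_linearCombination, hm]
  obtain ⟨l, r, hr⟩ := Submodule.fg_iff_exists_fin_generating_family.mp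
    (Module.FinitePresentation.fg_ker π hπ)
  refine ⟨k, l, m, r, hm, fun j => ?_, fun P _ _ n hn => ?_⟩
  · have : r j ∈ LinearMap.ker π := hr ▸ Submodule.subset_span ⟨j, rfl⟩
    exact this
  · let φ₀ := Fintype.linearCombination R n
    have hle : LinearMap.ker π ≤ LinearMap.ker φ₀ := by
      rw [← hr, Submodule.span_le]
      rintro _ ⟨j, rfl⟩
      exact hn j
    refine ⟨((LinearMap.ker π).liftQ φ₀ hle).comp
      (π.quotKerEquivOfSurjective hπ).symm.toLinearMap, fun i => ?_⟩
    classical
    have h1 : (π.quotKerEquivOfSurjective hπ).symm (m i) =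
        Submodule.Quotient.mk (Pi.single i (1 : R)) := by
      rw [LinearEquiv.symm_apply_eq, LinearMap.quotKerEquivOfSurjective_apply_mk]
      exact ((Fintype.linearCombination_apply_single R m i 1).trans (one_smul _ _)).symm
    rw [LinearMap.comp_apply, LinearEquiv.coe_coe, h1, Submodule.liftQ_apply]
    exact (Fintype.linearCombination_apply_single R n i 1).trans (one_smul _ _)

theorem evalStalk_bijective (hF : CohB1.IsFP F) (x : X) :
    Function.Bijective (RefHull.evalStalk F G x) := by
  have hfp : SheafOfModules.IsFinitePresentation (R := X.ringCatSheaf) F := hF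
  haveI : F.IsQuasicoherent := by
    obtain ⟨σ, -⟩ := SheafOfModules.IsFinitePresentation.exists_quasicoherentData
      (show SheafOfModules X.ringCatSheaf from F)
    exact SheafOfModules.IsQuasicoherent.mk (C := X.Opens) (R := X.ringCatSheaf) (M := F) ⟨σ⟩
  refine ⟨?_, fun h => ?_⟩
  · rw [injective_iff_map_eq_zero]
    intro v hv
    obtain ⟨U₀, hx₀, g, rfl⟩ := TopCat.Presheaf.exists_germ_eq (RefHull.homSh F G).presheaf v
    rw [RefHull.evalStalk_germ] at hv
    obtain ⟨U, hU, hxU, hle'⟩ := exists_isAffineOpen_mem_and_subset (X := X) hx₀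
    have hle : U ≤ U₀ := hle'
    haveI := Modules.AffineSections.finitePresentation_sections (M := F) hF hU
    obtain ⟨k, m, hm⟩ := Module.Finite.exists_fin (R := Γ(X, U)) (M := Γ(F, U))
    obtain ⟨f, hxf, hf⟩ := exists_nhd_res_eq_zero hxU hU (fun i => app g hle (m i)) fun i => by
      rw [germ_app]
      exact LinearMap.congr_fun hv _
    have key : rs (RefHull.homSh F G) ((X.basicOpen_le f).trans hle) g = 0 :=
      sec_ext_of_gens hU (X.basicOpen_le f) hm fun _ ⟨i, hi⟩ => by
        subst hi
        rw [app_res g hle, hf, app_zero_left]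
    exact (germ_rs (M := RefHull.homSh F G) ((X.basicOpen_le f).trans hle) hxf g).symm.trans
      (by rw [key, map_zero])
  obtain ⟨U, hU, hx, -⟩ := exists_isAffineOpen_mem_and_subset (X := X) (x := x)
    (Opens.mem_top x)
  haveI := Modules.AffineSections.finitePresentation_sections (M := F) hF hU
  obtain ⟨k, l, m, r, hm, hr, hlift⟩ := exists_gens_rels' Γ(X, U) Γ(F, U)
  obtain ⟨f, hf, n, hn⟩ := exists_nhd_sections (G := G) hx hU
    fun i => h (F.presheaf.germ U x hx (m i))
  have hD : IsAffineOpen (X.basicOpen f) := hU.basicOpen f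
  obtain ⟨f', hf', hz⟩ := exists_nhd_res_eq_zero hf hD
    (fun j => ∑ i, rf (X.basicOpen_le f) (r j i) • n i) fun j => by
      rw [map_sum]
      have e := congrArg (fun t => h (F.presheaf.germ U x hx t)) (hr j)
      simp only [map_sum, map_zero, Mero.germ_smul, map_smul] at e
      rw [← e]
      exact Finset.sum_congr rfl fun i _ => by rw [Mero.germ_smul, germ_rf, hn]
  have hW : X.basicOpen f' ≤ U := (X.basicOpen_le f').trans (X.basicOpen_le f)
  letI := resModule G hW
  obtain ⟨φ, hφ⟩ := hlift Γ(G, X.basicOpen f') (fun i => rs G (X.basicOpen_le f') (n i)) fun j => by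
    refine Eq.trans ?_ (hz j)
    rw [rs_sum]
    exact Finset.sum_congr rfl fun i _ => by
      erw [rs_smul]
      rw [rf_rf]
      rfl
  obtain ⟨g, hg⟩ := exists_sec_of_linear hU hW φ.toAddMonoidHom fun a b => φ.map_smul a b
  refine ⟨(RefHull.homSh F G).presheaf.germ _ x hf' g, ?_⟩
  rw [RefHull.evalStalk_germ]
  refine stalk_ext hU hx fun t => ?_
  have ht : t ∈ Submodule.span Γ(X, U) (Set.range m) := hm ▸ trivial
  induction ht using Submodule.span_induction with
  | mem y hy =>
    obtain ⟨i, rfl⟩ := hy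
    have e := congrArg (G.presheaf.germ _ x hf') (hg (m i))
    rw [germ_app, germ_rs] at e
    refine e.trans ?_
    rw [LinearMap.toAddMonoidHom_coe, hφ, germ_rs, hn]
  | zero => simp
  | add a b _ _ ha hb => simp only [map_add, ha, hb]
  | smul a b _ hb => simp only [Mero.germ_smul, map_smul, hb]

end Groth.Agent.Lib.RefHullN.EvalStalk
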